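import Cfsg.Agent.H33.IM
import Cfsg.Agent.H665.NoPQ
import Cfsg.Agent.H690.Spor.RankThree

/-!
# Tools for the Itô-Michler rows of the sporadic groups (helper672)

* `IM.of_hasDZ` : a character of defect zero for a prime divisor.
* `divList` : the list of the divisors of a number given by its factorization.
* `R3.degrees` : the degrees of the two nonprincipal constituents of a rank 3 permutation character
  by a finite check.
-/

set_option autoImplicit false

namespace Cfsg.Agent.H672.SporIM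

open Cfsg Cfsg.Agent.Characters.Core Cfsg.Agent.H665.NoPQ Cfsg.Agent.H33 Cfsg.Agent.Blocks.Knorr

/-- `G` has an irreducible character of degree `d`. -/
def HasDeg (G : Type*) [Group G] (d : ℕ) : Prop := ∃ χ : IrrCharacter G, charDegree (χ : G → ℂ) = d

theorem HasDeg.im {G : Type*} [Group G] {d p : ℕ} (h : HasDeg G d) (hp : p ∣ d) : IM p G := by
  obtain ⟨χ, hχ⟩ := h
  exact ⟨χ, by rwa [hχ]⟩

theorem HasDeg.of_equiv {G H : Type*} [Group G] [Group H] (e : G ≃* H) {d : ℕ} (h : HasDeg H d) :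
    HasDeg G d := by
  obtain ⟨χ, hχ⟩ := h
  refine ⟨⟨(χ : H → ℂ) ∘ e, isIrr_comp e.toMonoidHom e.surjective χ.2⟩, ?_⟩
  rw [← hχ]
  show charDegree ((χ : H → ℂ) ∘ e) = _
  unfold charDegree
  rw [Function.comp_apply, map_one]

/-- A character of defect zero for a prime divisor of the order. -/
theorem IM_of_hasDZ {G : Type*} [Group G] [Finite G] {p : ℕ} (hp : p.Prime) (hd : p ∣ Nat.card G)
    (h : HasDZ p G) : IM p G := by
  obtain ⟨χ, hχ⟩ := h
  refine ⟨χ, ?_⟩
  by_contra hn
  rw [Nat.factorization_eq_zero_of_not_dvd hn] at hχ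
  have := (hp.dvd_iff_one_le_factorization Nat.card_pos.ne').1 hd
  omega

/-- The divisors of `∏ p ^ e`. -/
def divList : List (ℕ × ℕ) → List ℕ
  | [] => [1]
  | (p, e) :: L => (List.range (e + 1)).flatMap fun i => (divList L).map fun d => p ^ i * d

theorem mem_divList {L : List (ℕ × ℕ)} (hL : ∀ x ∈ L, x.1.Prime) {d : ℕ}
    (hd : d ∣ (L.map fun x => x.1 ^ x.2).prod) : d ∈ divList L := by
  induction L generalizing d with
  | nil =>
    have : d = 1 := Nat.dvd_one.1 (by simpa using hd)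
    simp [divList, this]
  | cons x L ih =>
    obtain ⟨p, e⟩ := x
    rw [List.map_cons, List.prod_cons] at hd
    obtain ⟨a, b, ha, hb, rfl⟩ := (Nat.dvd_mul).1 hd
    have hp : p.Prime := hL (p, e) (List.mem_cons_self ..)
    obtain ⟨i, hi, rfl⟩ := (Nat.dvd_prime_pow hp).1 ha
    rw [divList, List.mem_flatMap]
    exact ⟨i, List.mem_range.2 (by omega), List.mem_map.2
      ⟨b, ih (fun x hx => hL x (List.mem_cons_of_mem _ hx)) hb, rfl⟩⟩

/-- A candidate for the integer square root of `x` (bisection with fuel; no correctness claim). -/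
def root (x : ℕ) : ℕ → ℕ → ℕ → ℕ
  | 0, lo, _ => lo
  | n + 1, lo, hi => bif Nat.ble (((lo + hi) / 2) * ((lo + hi) / 2)) x then
      root x n ((lo + hi) / 2) hi else root x n lo ((lo + hi) / 2)

/-- `x` is not a square, witnessed by a candidate root. -/
def notSq (x y : ℕ) : Bool := Nat.blt (y * y) x && Nat.blt x ((y + 1) * (y + 1))

theorem notSq_spec {x y : ℕ} (h : notSq x y = true) (z : ℕ) : z * z ≠ x := by
  rintro rfl
  rw [notSq, Bool.and_eq_true, Nat.blt_eq, Nat.blt_eq] at h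
  have h1 := Nat.mul_self_lt_mul_self_iff.1 h.1
  have h2 := Nat.mul_self_lt_mul_self_iff.1 h.2
  omega

/-- The check for one value `d` of the root of Frame's square: `s = f + g`, `P = f * g * d ^ 2`,
`n = |G|`; the allowed pairs `f > g`. -/
def chkD (s P n : ℕ) (sols : List (ℕ × ℕ)) (d : ℕ) : Bool :=
  !Nat.beq (P % (d * d)) 0 ||
  (Nat.blt (s * s) (4 * (P / (d * d))) ||
    (notSq (s * s - 4 * (P / (d * d))) (root (s * s - 4 * (P / (d * d))) 64 0 (s + 1)) ||
      (Nat.beq ((root (s * s - 4 * (P / (d * d))) 64 0 (s + 1)) *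
          (root (s * s - 4 * (P / (d * d))) 64 0 (s + 1))) (s * s - 4 * (P / (d * d))) &&
        (!Nat.beq (n % ((s + root (s * s - 4 * (P / (d * d))) 64 0 (s + 1)) / 2)) 0 ||
          (!Nat.beq (n % ((s - root (s * s - 4 * (P / (d * d))) 64 0 (s + 1)) / 2)) 0 ||
            sols.contains ((s + root (s * s - 4 * (P / (d * d))) 64 0 (s + 1)) / 2,
              (s - root (s * s - 4 * (P / (d * d))) 64 0 (s + 1)) / 2))))))

theorem mod_ne {a b : ℕ} (h : (!Nat.beq (a % b) 0) = true) : ¬ b ∣ a := by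
  intro hd
  rw [Nat.mod_eq_zero_of_dvd hd] at h
  exact absurd h (by decide)

theorem chkD_spec {s P n d f g : ℕ} {sols : List (ℕ × ℕ)} (h : chkD s P n sols d = true)
    (hfg : g < f) (hs : f + g = s) (hP : f * g * (d * d) = P) (hd : 0 < d) (hf : f ∣ n) (hg : g ∣ n) :
    (f, g) ∈ sols := by
  subst hs hP
  have hdd : 0 < d * d := Nat.mul_pos hd hd
  have hQ : f * g * (d * d) / (d * d) = f * g := Nat.mul_div_cancel _ hdd
  have hdisc : (f + g) * (f + g) - 4 * (f * g) = (f - g) * (f - g) := by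
    obtain ⟨c, rfl⟩ := Nat.exists_eq_add_of_lt hfg
    have h1 : (g + c + 1 + g) * (g + c + 1 + g) =
        4 * ((g + c + 1) * g) + (c + 1) * (c + 1) := by ring
    rw [h1, Nat.add_sub_cancel_left]
    congr 1 <;> omega
  unfold chkD at h
  rw [hQ, hdisc] at h
  generalize hy : root ((f - g) * (f - g)) 64 0 (f + g + 1) = y at h
  rw [Bool.or_eq_true, Bool.or_eq_true, Bool.or_eq_true, Bool.and_eq_true, Bool.or_eq_true,
    Bool.or_eq_true] at h
  rcases h with h | h | h | ⟨h1, h | h | h⟩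
  · exact absurd (Dvd.intro_left _ rfl) (mod_ne h)
  · rw [Nat.blt_eq] at h
    nlinarith [Nat.mul_self_le_mul_self (Nat.zero_le (f - g)), sq_nonneg ((f : ℤ) - g),
      (by
        have h2 : 4 * ((f : ℤ) * g) ≤ (f + g) * (f + g) := by nlinarith [sq_nonneg ((f : ℤ) - g)]
        exact_mod_cast h2 : 4 * (f * g) ≤ (f + g) * (f + g))]
  · exact absurd rfl (notSq_spec h (f - g))
  · have h2 : y = f - g := Nat.mul_self_inj.1 (Nat.eq_of_beq_eq_true h1)
    rw [h2] at h
    have h3 : (f + g + (f - g)) / 2 = f := by omega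
    rw [h3] at h
    exact absurd hf (mod_ne h)
  · have h2 : y = f - g := Nat.mul_self_inj.1 (Nat.eq_of_beq_eq_true h1)
    rw [h2] at h
    have h3 : (f + g - (f - g)) / 2 = g := by omega
    rw [h3] at h
    exact absurd hg (mod_ne h)
  · have h2 : y = f - g := Nat.mul_self_inj.1 (Nat.eq_of_beq_eq_true h1)
    rw [h2] at h
    have h3 : (f + g + (f - g)) / 2 = f := by omega
    have h4 : (f + g - (f - g)) / 2 = g := by omega
    rw [h3, h4] at h
    simpa using h

open Cfsg.Agent.H690.Spor.RankThree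

/-- `d ^ 2 ∣ M ^ 2 * s` with `s` squarefree gives `d ∣ M`. -/
theorem dvd_of_sq_dvd {d M s : ℕ} (hs : Squarefree s) (hM : 0 < M) (h : d * d ∣ M * M * s) : d ∣ M := by
  have hs0 : s ≠ 0 := hs.ne_zero
  have hd0 : d ≠ 0 := by
    rintro rfl
    rw [zero_mul, zero_dvd_iff] at h
    have : 0 < M * M * s := Nat.mul_pos (Nat.mul_pos hM hM) (Nat.pos_of_ne_zero hs0)
    omega
  rw [← Nat.factorization_le_iff_dvd hd0 hM.ne']
  intro p
  have h1 := (Nat.factorization_le_iff_dvd (Nat.mul_ne_zero hd0 hd0)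
    (Nat.mul_ne_zero (Nat.mul_ne_zero hM.ne' hM.ne') hs0)).2 h p
  rw [Nat.factorization_mul hd0 hd0, Nat.factorization_mul (Nat.mul_ne_zero hM.ne' hM.ne') hs0,
    Nat.factorization_mul hM.ne' hM.ne'] at h1
  simp only [Finsupp.coe_add, Pi.add_apply] at h1
  have h2 := hs.natFactorization_le_one p
  omega

/-- A product of distinct primes is squarefree. -/
theorem squarefree_prod {L : List ℕ} (hL : ∀ x ∈ L, x.Prime) (hn : L.Nodup) : Squarefree L.prod := by
  induction L with
  | nil => simp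
  | cons x L ih =>
    have hx := hL x (List.mem_cons_self ..)
    have hL' : ∀ y ∈ L, y.Prime := fun y hy => hL y (List.mem_cons_of_mem _ hy)
    rw [List.nodup_cons] at hn
    rw [List.prod_cons, Nat.squarefree_mul]
    · exact ⟨hx.squarefree, ih hL' hn.2⟩
    · rw [Nat.Prime.coprime_iff_not_dvd hx, hx.prime.dvd_prod_iff]
      rintro ⟨y, hy, hxy⟩
      rw [(Nat.prime_dvd_prime_iff_eq hx (hL' y hy)).1 hxy] at hn
      exact hn.1 hy

/-- **Degrees of a rank 3 permutation character.** -/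
theorem degrees_of_R3 {G X : Type*} [Group G] [MulAction G X] [Finite G] {R : X → X → Prop} {k l : ℕ}
    (h : R3 G X R k l) {n s P : ℕ} (hn : Nat.card G = n) (hs : k + l = s) (hP : (1 + k + l) * k * l = P)
    (L : List (ℕ × ℕ)) (Q : List ℕ) (hL : ∀ x ∈ L, x.1.Prime) (hQ : ∀ x ∈ Q, x.Prime) (hQn : Q.Nodup)
    (hPM : P = (L.map fun x => x.1 ^ x.2).prod * (L.map fun x => x.1 ^ x.2).prod * Q.prod)
    (hodd : Odd s ∨ ¬ s / 2 ∣ n) (sols : List (ℕ × ℕ))
    (hchk : (divList L).all (chkD s P n sols) = true) :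
    ∃ x ∈ sols, HasDeg G x.1 ∧ HasDeg G x.2 := by
  classical
  have hq := squarefree_prod hQ hQn
  have hfX : Finite X := Nat.finite_of_card_ne_zero (by rw [h.cardn]; omega)
  have := Fintype.ofFinite X
  obtain ⟨χ₁, χ₂, f, g, D, h1, h2, -, h3, h4, h5⟩ := h.frame
  have hd1 : charDegree (χ₁ : G → ℂ) = f := Cfsg.Agent.H670.PSing.charDegree_eq_of h1
  have hd2 : charDegree (χ₂ : G → ℂ) = g := Cfsg.Agent.H670.PSing.charDegree_eq_of h2
  have hf : f ∣ n := by rw [← hd1, ← hn]; exact charDegree_dvd χ₁.2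
  have hg : g ∣ n := by rw [← hd2, ← hn]; exact charDegree_dvd χ₂.2
  have hne : f ≠ g := by
    rintro rfl
    rcases hodd with h6 | h6
    · rw [← hs, ← h3] at h6
      exact (Nat.not_even_iff_odd.2 h6) ⟨f, rfl⟩
    · apply h6
      rw [← hs, ← h3, show (f + f) / 2 = f by omega]
      exact hf
  obtain ⟨d, rfl⟩ := h5 hne
  have hM : 0 < (L.map fun x => x.1 ^ x.2).prod := by
    apply Nat.pos_of_ne_zero
    intro h0
    rw [h0, zero_mul, zero_mul] at hPM
    rw [hPM] at hP
    have := Nat.mul_pos (Nat.mul_pos (show 0 < 1 + k + l by omega) h.k0) h.l0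
    omega
  have hP0 : 0 < P := by
    rw [← hP]
    exact Nat.mul_pos (Nat.mul_pos (by omega) h.k0) h.l0
  have hd : 0 < d := by
    apply Nat.pos_of_ne_zero
    rintro rfl
    rw [mul_zero, mul_zero, hP] at h4
    omega
  have h6 : f * g * (d * d) = P := by rw [h4, hP]
  have h7 : d ∣ (L.map fun x => x.1 ^ x.2).prod := by
    apply dvd_of_sq_dvd hq hM
    rw [← hPM, ← h6]
    exact Dvd.intro_left _ rfl
  have h8 := List.all_eq_true.1 hchk d (mem_divList hL h7)
  rcases lt_or_gt_of_ne hne with hlt | hlt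
  · exact ⟨(g, f), chkD_spec h8 hlt (by omega) (by rw [mul_comm g f]; exact h6) hd hg hf,
      ⟨χ₂, hd2⟩, ⟨χ₁, hd1⟩⟩
  · exact ⟨(f, g), chkD_spec h8 hlt (by omega) h6 hd hf hg, ⟨χ₁, hd1⟩, ⟨χ₂, hd2⟩⟩

end Cfsg.Agent.H672.SporIM
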